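import Cfsg.Agent.Spor.An9.L.D0

set_option autoImplicit false
set_option maxRecDepth 100000000
set_option Elab.async false

namespace Cfsg.Agent.Spor.An9.L

theorem gr3 : sub 0x1ff (U.growI W1 [6, 6, 5, 4, 3, 2, 1, 0] (Nat.shiftLeft 1 0)) = true := by decide +kernel

theorem cl5 : band (U.closedW W1 0x1ff) (sub (Nat.shiftLeft 1 0) 0x1ff) = true := by decide +kernel

theorem sz6 : sizeOk 4 0x1ff 9 = true := by decide +kernel

theorem fx8 : U.closedW W2 (Nat.shiftLeft 1 0) = true := by decide +kernel

theorem gr9 : sub 0x1fe (U.growI W2 [5, 5, 4, 3, 2, 1, 0] (Nat.shiftLeft 1 8)) = true := by decide +kernel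

theorem cl11 : band (U.closedW W2 0x1fe) (sub (Nat.shiftLeft 1 8) 0x1fe) = true := by decide +kernel

theorem sz12 : sizeOk 4 0x1fe 8 = true := by decide +kernel

theorem fx15 : U.closedW W14 (Nat.shiftLeft 1 8) = true := by decide +kernel

theorem gr16 : sub 0xfe (U.growI W14 [4, 4, 3, 2, 1, 0] (Nat.shiftLeft 1 7)) = true := by decide +kernel

theorem cl18 : band (U.closedW W14 0xfe) (sub (Nat.shiftLeft 1 7) 0xfe) = true := by decide +kernel

theorem sz19 : sizeOk 4 0xfe 7 = true := by decide +kernel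

theorem fx22 : U.closedW W21 (Nat.shiftLeft 1 7) = true := by decide +kernel

theorem gr23 : sub 0x7e (U.growI W21 [3, 3, 2, 1, 0] (Nat.shiftLeft 1 6)) = true := by decide +kernel

theorem cl25 : band (U.closedW W21 0x7e) (sub (Nat.shiftLeft 1 6) 0x7e) = true := by decide +kernel

theorem sz26 : sizeOk 4 0x7e 6 = true := by decide +kernel

theorem fx29 : U.closedW W28 (Nat.shiftLeft 1 6) = true := by decide +kernel

theorem gr30 : sub 0x3e (U.growI W28 [2, 2, 1, 0] (Nat.shiftLeft 1 5)) = true := by decide +kernel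

theorem cl32 : band (U.closedW W28 0x3e) (sub (Nat.shiftLeft 1 5) 0x3e) = true := by decide +kernel

theorem sz33 : sizeOk 4 0x3e 5 = true := by decide +kernel

theorem fx36 : U.closedW W35 (Nat.shiftLeft 1 5) = true := by decide +kernel

theorem gr37 : sub 0x1e (U.growI W35 [1, 1, 0] (Nat.shiftLeft 1 4)) = true := by decide +kernel

theorem cl39 : band (U.closedW W35 0x1e) (sub (Nat.shiftLeft 1 4) 0x1e) = true := by decide +kernel

theorem sz40 : sizeOk 4 0x1e 4 = true := by decide +kernel

theorem fx43 : U.closedW W42 (Nat.shiftLeft 1 4) = true := by decide +kernel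

theorem gr44 : sub 0xe (U.growI W42 [0, 0] (Nat.shiftLeft 1 1)) = true := by decide +kernel

theorem cl46 : band (U.closedW W42 0xe) (sub (Nat.shiftLeft 1 1) 0xe) = true := by decide +kernel

theorem sz47 : sizeOk 4 0xe 3 = true := by decide +kernel

end Cfsg.Agent.Spor.An9.L
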