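import Cfsg.Agent.Spor.Prim
import Cfsg.Agent.Spor.An9.Main
import Cfsg.Agent.Spor.An9.L.C0
import Cfsg.Agent.Spor.TT2

set_option autoImplicit false
set_option maxRecDepth 100000000
set_option Elab.async false

namespace Cfsg.Agent.Spor.An9.L

theorem hU : U.Ok 4 := U.ok_of 4 (show AllP (fun n => Net.okb 4 n = true) [n0, n1, n2, n3, n4, n5, n6] from AllP.cons ok0 (AllP.cons ok1 (AllP.cons ok2 (AllP.cons ok3 (AllP.cons ok4 (AllP.cons ok5 (AllP.cons ok6 (AllP.nil))))))))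

theorem hfP : ∀ j < 7, U.fP [1, 3, 5, 7, 9, 11, 13] j = fP j := by
  intro j hj
  interval_cases j <;> rfl
theorem eG : gsub 7 fP = U.lsub W1 := (gsub_congr hfP).symm.trans (lsub_eq_gsub U [1, 3, 5, 7, 9, 11, 13])
theorem upz1 : ev (atm 7 fP) [0] = U.τ 1 := pz1
theorem upz3 : ev (atm 7 fP) [2] = U.τ 3 := pz2
theorem upz5 : ev (atm 7 fP) [4] = U.τ 5 := pz3
theorem upz7 : ev (atm 7 fP) [6] = U.τ 7 := pz4
theorem upz9 : ev (atm 7 fP) [8] = U.τ 9 := pz5
theorem upz11 : ev (atm 7 fP) [10] = U.τ 11 := pz6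
theorem upz13 : ev (atm 7 fP) [12] = U.τ 13 := pz7
theorem eH : wsub 7 fP BW = U.lsub W2 :=
  lsub_eq_of_all₂ (show List.Forall₂ _ [[0], [2], [4], [6], [8], [10]] [[1], [3], [5], [7], [9], [11]] from List.Forall₂.cons (upz1.trans (one_mul _).symm) (List.Forall₂.cons (upz3.trans (one_mul _).symm) (List.Forall₂.cons (upz5.trans (one_mul _).symm) (List.Forall₂.cons (upz7.trans (one_mul _).symm) (List.Forall₂.cons (upz9.trans (one_mul _).symm) (List.Forall₂.cons (upz11.trans (one_mul _).symm) (List.Forall₂.nil)))))))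
theorem vpz1 : PZ U (atm 7 fP) EXU 1 := pz1
theorem vpz2 : PZ U (atm 7 fP) EXU 2 := PZ.of_inv hiv vpz1 (by decide +kernel)
theorem vpz3 : PZ U (atm 7 fP) EXU 3 := pz2
theorem vpz4 : PZ U (atm 7 fP) EXU 4 := PZ.of_inv hiv vpz3 (by decide +kernel)
theorem vpz5 : PZ U (atm 7 fP) EXU 5 := pz3
theorem vpz6 : PZ U (atm 7 fP) EXU 6 := PZ.of_inv hiv vpz5 (by decide +kernel)
theorem vpz7 : PZ U (atm 7 fP) EXU 7 := pz4
theorem vpz8 : PZ U (atm 7 fP) EXU 8 := PZ.of_inv hiv vpz7 (by decide +kernel)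
theorem vpz9 : PZ U (atm 7 fP) EXU 9 := pz5
theorem vpz10 : PZ U (atm 7 fP) EXU 10 := PZ.of_inv hiv vpz9 (by decide +kernel)
theorem vpz11 : PZ U (atm 7 fP) EXU 11 := pz6
theorem vpz12 : PZ U (atm 7 fP) EXU 12 := PZ.of_inv hiv vpz11 (by decide +kernel)
theorem vpz13 : PZ U (atm 7 fP) EXU 13 := pz7
theorem vpz14 : PZ U (atm 7 fP) EXU 14 := PZ.of_inv hiv vpz13 (by decide +kernel)
theorem hPZU : AllP (PZ U (atm 7 fP) EXU) LU :=
  show AllP (PZ U (atm 7 fP) EXU) [1, 2, 3, 4, 5, 6, 7, 8, 9, 10, 11, 12, 13, 14] from AllP.cons vpz1 (AllP.cons vpz2 (AllP.cons vpz3 (AllP.cons vpz4 (AllP.cons vpz5 (AllP.cons vpz6 (AllP.cons vpz7 (AllP.cons vpz8 (AllP.cons vpz9 (AllP.cons vpz10 (AllP.cons vpz11 (AllP.cons vpz12 (AllP.cons vpz13 (AllP.cons vpz14 (AllP.nil))))))))))))))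
theorem reach4 : Reach (U.lsub W1) 0 0x1ff := (Reach.grow hU (Reach.base _ 0) gr3)
theorem orb7 : (orbS (U.lsub W1) 0).ncard = 9 := reach4.ncard hU cl5 sz6
theorem orb7e : orbS (U.lsub W1) 0 = {c | Nat.testBit 0x1ff c = true} := reach4.orb hU cl5
theorem reach10 : Reach (U.lsub W2) 8 0x1fe := (Reach.grow hU (Reach.base _ 8) gr9)
theorem orb13 : (orbS (U.lsub W2) 8).ncard = 8 := reach10.ncard hU cl11 sz12
theorem orb13e : orbS (U.lsub W2) 8 = {c | Nat.testBit 0x1fe c = true} := reach10.orb hU cl11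
theorem reach17 : Reach (U.lsub W14) 7 0xfe := (Reach.grow hU (Reach.base _ 7) gr16)
theorem orb20 : (orbS (U.lsub W14) 7).ncard = 7 := reach17.ncard hU cl18 sz19
theorem orb20e : orbS (U.lsub W14) 7 = {c | Nat.testBit 0xfe c = true} := reach17.orb hU cl18
theorem reach24 : Reach (U.lsub W21) 6 0x7e := (Reach.grow hU (Reach.base _ 6) gr23)
theorem orb27 : (orbS (U.lsub W21) 6).ncard = 6 := reach24.ncard hU cl25 sz26
theorem orb27e : orbS (U.lsub W21) 6 = {c | Nat.testBit 0x7e c = true} := reach24.orb hU cl25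
theorem reach31 : Reach (U.lsub W28) 5 0x3e := (Reach.grow hU (Reach.base _ 5) gr30)
theorem orb34 : (orbS (U.lsub W28) 5).ncard = 5 := reach31.ncard hU cl32 sz33
theorem orb34e : orbS (U.lsub W28) 5 = {c | Nat.testBit 0x3e c = true} := reach31.orb hU cl32
theorem reach38 : Reach (U.lsub W35) 4 0x1e := (Reach.grow hU (Reach.base _ 4) gr37)
theorem orb41 : (orbS (U.lsub W35) 4).ncard = 4 := reach38.ncard hU cl39 sz40
theorem orb41e : orbS (U.lsub W35) 4 = {c | Nat.testBit 0x1e c = true} := reach38.orb hU cl39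
theorem reach45 : Reach (U.lsub W42) 1 0xe := (Reach.grow hU (Reach.base _ 1) gr44)
theorem orb48 : (orbS (U.lsub W42) 1).ncard = 3 := reach45.ncard hU cl46 sz47
theorem orb48e : orbS (U.lsub W42) 1 = {c | Nat.testBit 0xe c = true} := reach45.orb hU cl46
theorem lb49 : 3 ∣ Nat.card (U.lsub W42) := dvd_card_orb orb48
theorem lb50 : 12 ∣ Nat.card (U.lsub W35) :=
  dvd_card_step (s := 4) (M := 3) (B := U.lsub W42) (U.lsub_sub (by decide)) (hU.fixes fx43) orb41 lb49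
theorem lb51 : 60 ∣ Nat.card (U.lsub W28) :=
  dvd_card_step (s := 5) (M := 12) (B := U.lsub W35) (U.lsub_sub (by decide)) (hU.fixes fx36) orb34 lb50
theorem lb52 : 360 ∣ Nat.card (U.lsub W21) :=
  dvd_card_step (s := 6) (M := 60) (B := U.lsub W28) (U.lsub_sub (by decide)) (hU.fixes fx29) orb27 lb51
theorem lb53 : 2520 ∣ Nat.card (U.lsub W14) :=
  dvd_card_step (s := 7) (M := 360) (B := U.lsub W21) (U.lsub_sub (by decide)) (hU.fixes fx22) orb20 lb52
theorem lb54 : 20160 ∣ Nat.card (U.lsub W2) :=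
  dvd_card_step (s := 8) (M := 2520) (B := U.lsub W14) (U.lsub_sub (by decide)) (hU.fixes fx15) orb13 lb53
theorem lb : 181440 ∣ Nat.card (U.lsub W1) :=
  dvd_card_step (s := 9) (M := 20160) (B := U.lsub W2) (U.lsub_sub (by decide)) (hU.fixes fx8) orb7 lb54

end Cfsg.Agent.Spor.An9.L
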